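import Mathlib

/-!
# A group of order 162
-/

namespace Cfsg.Agent.Order162

open Subgroup
open scoped Pointwise

/-- A faithful embedding into the centralizer of a fixed-point-free permutation of order 3. -/
theorem iso_of_core_free {G : Type*} [Group G] [Finite G] (hG : Nat.card G = 162) (L : Subgroup G)
    (hL : Nat.card L = 18) (hcore : L.normalCore = ⊥) (z : G) (hz : orderOf z = 3)
    (hzc : ∀ g, g * z = z * g) (hzL : z ∉ L) (c : Equiv.Perm (Fin 9))
    (hc : c.cycleType = Multiset.replicate 3 3) :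
    Nonempty (G ≃* Subgroup.centralizer ({c} : Set (Equiv.Perm (Fin 9)))) := by
  classical
  have hidx : Nat.card (G ⧸ L) = 9 := by
    have := L.card_mul_index
    rw [hL, hG] at this
    show L.index = 9
    omega
  obtain ⟨e⟩ : Nonempty (G ⧸ L ≃ Fin 9) := ⟨Finite.equivFinOfCardEq hidx⟩
  let φ : G →* Equiv.Perm (Fin 9) := e.permCongrHom.toMonoidHom.comp (MulAction.toPermHom G (G ⧸ L))
  have hφ : Function.Injective φ := by
    have hker : (MulAction.toPermHom G (G ⧸ L)).ker = ⊥ := by rw [← Subgroup.normalCore_eq_ker, hcore]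
    exact fun _ _ h => (MonoidHom.ker_eq_bot_iff _).1 hker (e.permCongrHom.injective h)
  have hfree : ∀ i, φ z i ≠ i := by
    intro i hi
    have h : z • e.symm i = e.symm i := e.injective (by simpa [φ, MulAction.toPermHom] using hi)
    revert h
    refine QuotientGroup.induction_on (e.symm i) fun g h => hzL ?_
    have h' : ((z * g : G) : G ⧸ L) = (g : G ⧸ L) := h
    have h2 := QuotientGroup.eq.1 h'.symm
    rwa [← hzc, ← mul_assoc, inv_mul_cancel, one_mul] at h2
  have hord : orderOf (φ z) = 3 := by rw [orderOf_injective φ hφ, hz]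
  obtain ⟨k, hk⟩ := Equiv.Perm.cycleType_prime_order (σ := φ z) (hord.symm ▸ Nat.prime_three)
  rw [hord] at hk
  have hsupp : (φ z).support = Finset.univ :=
    Finset.eq_univ_iff_forall.2 fun i => Equiv.Perm.mem_support.2 (hfree i)
  have hsum := Equiv.Perm.sum_cycleType (φ z)
  rw [hk, Multiset.sum_replicate, hsupp, Finset.card_univ, Fintype.card_fin, smul_eq_mul] at hsum
  have hk2 : k + 1 = 3 := by omega
  rw [hk2] at hk
  obtain ⟨g, hg⟩ := isConj_iff.1 (Equiv.Perm.isConj_of_cycleType_eq (hk.trans hc.symm))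
  let ψ : G →* centralizer ({c} : Set (Equiv.Perm (Fin 9))) :=
    ((MulAut.conj g).toMonoidHom.comp φ).codRestrict _ fun x => by
      rw [mem_centralizer_singleton_iff, ← hg]
      show g * φ x * g⁻¹ * (g * φ z * g⁻¹) = g * φ z * g⁻¹ * (g * φ x * g⁻¹)
      calc g * φ x * g⁻¹ * (g * φ z * g⁻¹) = g * φ (x * z) * g⁻¹ := by rw [map_mul]; group
        _ = g * φ (z * x) * g⁻¹ := by rw [hzc]
        _ = _ := by rw [map_mul]; group
  have hψ : Function.Injective ψ := fun a b h => hφ ((MulAut.conj g).injective (congrArg Subtype.val h))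
  have hcard : Nat.card (centralizer ({c} : Set (Equiv.Perm (Fin 9)))) = 162 := by
    rw [Equiv.Perm.nat_card_centralizer, hc, Multiset.sum_replicate, Multiset.prod_replicate,
      Fintype.card_fin, smul_eq_mul, Multiset.toFinset_replicate, if_neg (by decide), Finset.prod_singleton,
      Multiset.count_replicate_self]
    rfl
  exact ⟨MulEquiv.ofBijective ψ ((Nat.bijective_iff_injective_and_card ψ).2 ⟨hψ, hG.trans hcard.symm⟩)⟩

/-- A nontrivial subgroup of a `p`-group normalized by it contains a nontrivial central element. -/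
theorem exists_central {G : Type*} [Group G] [Finite G] {p : ℕ} [Fact p.Prime] (S M : Subgroup G)
    (hS : IsPGroup p S) (hM : IsPGroup p M) (hMn : M.Normal) (hne : M ≠ ⊥) :
    ∃ m ∈ M, m ≠ 1 ∧ ∀ s ∈ S, s * m = m * s := by
  let inst : MulAction S M :=
    { smul := fun s m => ⟨(s : G) * m * (s : G)⁻¹, hMn.conj_mem m m.2 s⟩
      one_smul := fun m => Subtype.ext (by show (1 : G) * m * (1 : G)⁻¹ = m; group)
      mul_smul := fun s s' m => Subtype.ext (by
        show (s : G) * s' * m * ((s : G) * s')⁻¹ = (s : G) * ((s' : G) * m * (s' : G)⁻¹) * (s : G)⁻¹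
        group) }
  have : Nontrivial M := (Subgroup.nontrivial_iff_ne_bot M).2 hne
  have hdvd : p ∣ Nat.card M := by
    obtain ⟨k, hk⟩ := IsPGroup.iff_card.1 hM
    rcases Nat.eq_zero_or_pos k with h0 | h0
    · exact absurd hk (by rw [h0, pow_zero]; exact Finite.one_lt_card.ne')
    · exact hk ▸ dvd_pow_self p h0.ne'
  obtain ⟨m, hm, hne'⟩ := hS.exists_fixed_point_of_prime_dvd_card_of_fixed_point (α := M) hdvd (a := 1)
    (fun s => Subtype.ext (by show (s : G) * (1 : G) * (s : G)⁻¹ = 1; group))
  refine ⟨m, m.2, fun h => hne' (Subtype.ext h.symm), fun s hs => ?_⟩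
  have h : s * (m : G) * s⁻¹ = m := congrArg Subtype.val (hm ⟨s, hs⟩)
  calc s * (m : G) = s * (m : G) * s⁻¹ * s := by group
    _ = m * s := by rw [h]

end Cfsg.Agent.Order162
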